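import Cfsg.Agent.H823.O8S.Defs

/-!
# S3938-OPLUS8 (O9): linear algebra with a field `F[J]` of similitudes (helper264)
-/

set_option autoImplicit false
set_option linter.unusedSectionVars false

namespace Cfsg.Agent.H264.O8S

open Module QuadraticMap Cfsg.Agent.LieClassical.OrthCore
open Cfsg.Agent.H951 (fx cm Inv mem_fx mem_cm)

variable {F V : Type*} [Field F] [AddCommGroup V] [Module F V]

/-- `F[J]` is a field of similitudes -/
structure JF (Q : QuadraticForm F V) (J : Module.End F V) (c d : F) : Prop where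
  sq : ∀ v, J (J v) = c • J v - d • v
  irr : ∀ z : F, z * z - c * z + d ≠ 0
  sim : ∀ v, Q (J v) = d * Q v

variable {Q : QuadraticForm F V} {J : Module.End F V} {c d : F}

theorem JF.d0 (h : JF Q J c d) : d ≠ 0 := by
  intro h0
  apply h.irr 0
  rw [h0]
  ring

/-- in characteristic two `c ≠ 0` -/
theorem JF.c0 [Finite F] (h : JF Q J c d) (h2 : (2 : F) = 0) : c ≠ 0 := by
  intro h0
  have : CharP F 2 := CharTwo.of_one_ne_zero_of_two_eq_zero one_ne_zero h2
  have := Fintype.ofFinite F
  obtain ⟨z, hz⟩ : ∃ z : F, z * z = d := by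
    have h1 := FiniteField.isSquare_of_char_two (F := F) (by rw [ringChar.eq F 2]) d
    obtain ⟨z, hz⟩ := h1
    exact ⟨z, hz.symm⟩
  apply h.irr z
  rw [h0, hz]
  have : d + d = 2 * d := by ring
  rw [zero_mul, sub_zero, this, h2, zero_mul]

theorem JF.inj (h : JF Q J c d) {v : V} (hv : J v = 0) : v = 0 := by
  have h1 := h.sq v
  rw [hv, map_zero, smul_zero, zero_sub, eq_comm, neg_eq_zero, smul_eq_zero] at h1
  exact h1.resolve_left h.d0

/-- `J` has no eigenvectors -/
theorem JF.eig (h : JF Q J c d) {v : V} {l : F} (hv : J v = l • v) : v = 0 := by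
  have h1 := h.sq v
  rw [hv, map_smul, hv] at h1
  have h2 : (l * l - c * l + d) • v = 0 := by
    rw [add_smul, sub_smul, mul_smul, mul_smul, h1]
    module
  exact (smul_eq_zero.1 h2).resolve_left (h.irr l)

theorem JF.comb (h : JF Q J c d) {v : V} (hv : v ≠ 0) {a b : F} (hab : a • v + b • J v = 0) : a = 0 ∧ b = 0 := by
  by_cases hb : b = 0
  · rw [hb, zero_smul, add_zero, smul_eq_zero] at hab
    exact ⟨hab.resolve_right hv, hb⟩
  · exfalso
    apply hv
    apply h.eig (l := -(b⁻¹ * a))
    have h1 : b⁻¹ • (a • v + b • J v) = 0 := by rw [hab, smul_zero]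
    rw [smul_add, smul_smul, smul_smul, inv_mul_cancel₀ hb, one_smul] at h1
    rw [neg_smul, eq_neg_iff_add_eq_zero, add_comm, h1]

/-- `(2 J - c)` is injective -/
theorem JF.two [Finite F] (h : JF Q J c d) {v : V} (hv : (2 : F) • J v = c • v) : v = 0 := by
  by_cases h2 : (2 : F) = 0
  · rw [h2, zero_smul, eq_comm, smul_eq_zero] at hv
    exact hv.resolve_left (h.c0 h2)
  · apply h.eig (l := 2⁻¹ * c)
    rw [mul_smul, ← hv, smul_smul, inv_mul_cancel₀ h2, one_smul]

theorem JF.polar_JJ (h : JF Q J c d) (v w : V) : polar Q (J v) (J w) = d * polar Q v w := by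
  simp only [polar, ← map_add, h.sim]
  ring

/-- the adjoint of `J` is `c - J` -/
theorem JF.adj (h : JF Q J c d) (v w : V) : polar Q (J v) w = polar Q v (c • w - J w) := by
  have h1 : J (c • w - J w) = d • w := by
    rw [map_sub, map_smul, h.sq]
    abel
  have h2 := h.polar_JJ v (c • w - J w)
  rw [h1, polar_smul_right, smul_eq_mul] at h2
  exact mul_left_cancel₀ h.d0 h2

theorem JF.adj' (h : JF Q J c d) (v w : V) : polar Q (J v) w = c * polar Q v w - polar Q v (J w) := by
  rw [h.adj, polar_sub_right, polar_smul_right, smul_eq_mul]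

theorem JF.polar_self [Finite F] (h : JF Q J c d) (v : V) : polar Q (J v) v = c * Q v := by
  have h1 := h.adj' v v
  by_cases h2 : (2 : F) = 0
  · have hc := h.c0 h2
    have h3 := h.sim (J v)
    rw [h.sim v, h.sq v] at h3
    have h4 : Q (c • J v - d • v) = c * c * (d * Q v) + d * d * Q v - c * d * polar Q (J v) v := by
      rw [sub_eq_add_neg, ← neg_smul, Q_add, QuadraticMap.map_smul, QuadraticMap.map_smul, polar_smul_left,
        polar_smul_right, h.sim]
      simp only [smul_eq_mul]
      ring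
    rw [h4] at h3
    have h5 : c * d * (c * Q v - polar Q (J v) v) = 0 := by linear_combination h3
    rcases mul_eq_zero.1 h5 with h6 | h6
    · exact absurd h6 (mul_ne_zero hc h.d0)
    · exact (sub_eq_zero.1 h6).symm
  · rw [polar_self', polar_comm Q v (J v)] at h1
    have h3 : 2 * (polar Q (J v) v - c * Q v) = 0 := by linear_combination h1
    rcases mul_eq_zero.1 h3 with h4 | h4
    · exact absurd h4 h2
    · exact sub_eq_zero.1 h4

/-- the span of `v`, `J v` -/
def sp (J : Module.End F V) (v : V) : Submodule F V := Submodule.span F {v, J v}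

theorem mem_sp {v y : V} : y ∈ sp J v ↔ ∃ a b : F, a • v + b • J v = y := Submodule.mem_span_pair

theorem JF.finrank_sp (h : JF Q J c d) {v : V} (hv : v ≠ 0) : finrank F (sp J v) = 2 := by
  have h1 : LinearIndependent F ![v, J v] := by
    rw [LinearIndependent.pair_iff]
    intro a b hab
    exact h.comb hv hab
  have h2 := finrank_span_eq_card h1
  rw [Fintype.card_fin, Matrix.range_cons, Matrix.range_cons, Matrix.range_empty, Set.union_empty] at h2
  exact h2

theorem JF.inv_sp (h : JF Q J c d) {v y : V} (hy : y ∈ sp J v) : J y ∈ sp J v := by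
  obtain ⟨a, b, rfl⟩ := mem_sp.1 hy
  refine mem_sp.2 ⟨-(b * d), a + b * c, ?_⟩
  rw [map_add, map_smul, map_smul, h.sq]
  module

/-- a singular vector has a singular `F[J]`-line -/
theorem JF.Q_sp [Finite F] (h : JF Q J c d) {v y : V} (hv : Q v = 0) (hy : y ∈ sp J v) : Q y = 0 := by
  obtain ⟨a, b, rfl⟩ := mem_sp.1 hy
  rw [Q_add, QuadraticMap.map_smul, QuadraticMap.map_smul, polar_smul_left, polar_smul_right, h.sim, polar_comm,
    h.polar_self, hv]
  simp

/-- the rotation `r_{J n} r_n` commutes with `J` -/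
theorem JF.rot_apply [Finite F] (h : JF Q J c d) {n : V} (hn : Q n ≠ 0) (hn' : Q (J n) ≠ 0) (v : V) :
    (refl Q (J n) hn' * refl Q n hn) v = v - ((Q n)⁻¹ * polar Q n v) • n
      - ((Q n)⁻¹ * d⁻¹ * polar Q (J n) v - (Q n)⁻¹ * polar Q n v * c * d⁻¹) • J n := by
  have hd := h.d0
  rw [LinearEquiv.mul_apply, refl_apply, refl_apply, h.sim, polar_sub_right, polar_smul_right, h.polar_self]
  match_scalars
  · ring
  · ring
  · simp only [smul_eq_mul]
    field_simp

theorem JF.rot_comm [Finite F] (h : JF Q J c d) {n : V} (hn : Q n ≠ 0) (hn' : Q (J n) ≠ 0) (v : V) :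
    (refl Q (J n) hn' * refl Q n hn) (J v) = J ((refl Q (J n) hn' * refl Q n hn) v) := by
  have hd := h.d0
  rw [h.rot_apply, h.rot_apply, map_sub, map_sub, map_smul, map_smul, h.sq, h.polar_JJ]
  have h1 : polar Q n (J v) = c * polar Q n v - polar Q (J n) v := by
    rw [h.adj']
    ring
  rw [h1]
  match_scalars
  · ring
  · field_simp
    ring
  · field_simp
    ring

end Cfsg.Agent.H264.O8S
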