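import Cfsg.Agent.H264.O8S.Abs

/-!
# S3938-OPLUS8 (O9): the configuration `V = W ⊥ U` (helper264)
-/

set_option autoImplicit false
set_option linter.unusedSectionVars false

namespace Cfsg.Agent.H264.O8S

open Module QuadraticMap Cfsg.Agent.LieClassical.OrthCore
open Cfsg.Agent.H951 (fx cm Inv mem_fx mem_cm)

variable {F V : Type*} [Field F] [AddCommGroup V] [Module F V]

/-- `W = C_V(x)`, `U = [V, x]` -/
structure Cfg (Q : QuadraticForm F V) (x : V ≃ₗ[F] V) (W U : Submodule F V) : Prop where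
  nd : Nondeg Q
  mem : x ∈ O Q
  compl : IsCompl W U
  dW : finrank F W = 2
  dU : finrank F U = 6
  memW : ∀ y, y ∈ W ↔ x y = y
  memU : ∀ y, y ∈ U ↔ ∃ v, x v - v = y
  low : ∀ Y : Submodule F V, (∀ y ∈ Y, x y ∈ Y) → finrank F Y ≤ 5 → Y ≤ W

variable {Q : QuadraticForm F V} {x : V ≃ₗ[F] V} {W U : Submodule F V} {J J' : Module.End F V} {c d : F}

theorem Cfg.perp (h : Cfg Q x W U) {w u : V} (hw : w ∈ W) (hu : u ∈ U) : polar Q w u = 0 := by
  obtain ⟨v, rfl⟩ := (h.memU u).1 hu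
  have h1 := polar_map h.mem w v
  rw [(h.memW w).1 hw] at h1
  rw [polar_sub_right, h1, sub_self]

theorem Cfg.split (h : Cfg Q x W U) (v : V) : ∃ w ∈ W, ∃ u ∈ U, w + u = v := by
  have : v ∈ W ⊔ U := by rw [h.compl.sup_eq_top]; trivial
  exact Submodule.mem_sup.1 this

theorem Cfg.nd_W (h : Cfg Q x W U) {w : V} (hw : w ∈ W) (h0 : ∀ w' ∈ W, polar Q w w' = 0) : w = 0 := by
  apply h.nd
  intro y
  obtain ⟨w', hw', u', hu', rfl⟩ := h.split y
  rw [polar_add_right, h0 w' hw', h.perp hw hu', add_zero]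

theorem Cfg.nd_U (h : Cfg Q x W U) {u : V} (hu : u ∈ U) (h0 : ∀ u' ∈ U, polar Q u u' = 0) : u = 0 := by
  apply h.nd
  intro y
  obtain ⟨w', hw', u', hu', rfl⟩ := h.split y
  rw [polar_add_right, h0 u' hu', polar_comm, h.perp hw' hu, add_zero]

theorem Cfg.perp_W (h : Cfg Q x W U) {y : V} (h0 : ∀ w ∈ W, polar Q y w = 0) : y ∈ U := by
  obtain ⟨w, hw, u, hu, rfl⟩ := h.split y
  have : w = 0 := h.nd_W hw fun w' hw' => by
    have h1 := h0 w' hw'
    rwa [polar_add_left, polar_comm Q u w', h.perp hw' hu, add_zero] at h1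
  rw [this, zero_add]
  exact hu

theorem Cfg.zero (h : Cfg Q x W U) {y : V} (h1 : y ∈ W) (h2 : y ∈ U) : y = 0 :=
  Submodule.disjoint_def.1 h.compl.disjoint y h1 h2

/-- isometries preserving `W` preserve `U` -/
theorem Cfg.pres (h : Cfg Q x W U) {g : V ≃ₗ[F] V} (hg : g ∈ O Q) (hW : ∀ w ∈ W, ∃ w' ∈ W, g w' = w) {u : V}
    (hu : u ∈ U) : g u ∈ U := by
  apply h.perp_W
  intro w hw
  obtain ⟨w', hw', rfl⟩ := hW w hw
  rw [polar_map hg, polar_comm, h.perp hw' hu]

theorem Cfg.x_U (h : Cfg Q x W U) {u : V} (hu : u ∈ U) : x u ∈ U := by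
  obtain ⟨v, rfl⟩ := (h.memU u).1 hu
  exact (h.memU _).2 ⟨x v, by rw [map_sub]⟩

theorem Cfg.J_W (h : Cfg Q x W U) (hJ : ∀ v, J (x v) = x (J v)) {w : V} (hw : w ∈ W) : J w ∈ W := by
  rw [h.memW, ← hJ, (h.memW w).1 hw]

theorem Cfg.J_U (h : Cfg Q x W U) (hJ : ∀ v, J (x v) = x (J v)) {u : V} (hu : u ∈ U) : J u ∈ U := by
  obtain ⟨v, rfl⟩ := (h.memU u).1 hu
  exact (h.memU _).2 ⟨J v, by rw [map_sub, hJ]⟩

theorem Cfg.exists_W (h : Cfg Q x W U) : ∃ w ∈ W, w ≠ 0 := by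
  have h1 : W ≠ ⊥ := by
    intro h0
    have := h.dW
    rw [h0, finrank_bot] at this
    omega
  exact Submodule.exists_mem_ne_zero_of_ne_bot h1

/-- `W` is anisotropic -/
theorem Cfg.anis [Finite F] [FiniteDimensional F V] (h : Cfg Q x W U) (hJ : JF Q J c d) (hx : ∀ v, J (x v) = x (J v)) {w : V} (hw : w ∈ W)
    (h0 : Q w = 0) : w = 0 := by
  by_contra hne
  have h1 : sp J w ≤ W := by
    rw [sp, Submodule.span_le]
    rintro y (rfl | rfl)
    · exact hw
    · exact h.J_W hx hw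
  have h2 : sp J w = W := Submodule.eq_of_le_of_finrank_eq h1 (by rw [hJ.finrank_sp hne, h.dW])
  apply hne
  apply h.nd_W hw
  intro w' hw'
  rw [← h2] at hw'
  have hws : w ∈ sp J w := mem_sp.2 ⟨1, 0, by rw [one_smul, zero_smul, add_zero]⟩
  have h3 := hJ.Q_sp h0 (Submodule.add_mem _ hws hw')
  rw [Q_add, h0, hJ.Q_sp h0 hw', zero_add, zero_add] at h3
  exact h3

theorem Cfg.exists_U (h : Cfg Q x W U) : ∃ u ∈ U, Q u ≠ 0 := by
  by_contra hcon
  push Not at hcon
  have h1 : U = ⊥ := by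
    rw [eq_bot_iff]
    intro u hu
    rw [Submodule.mem_bot]
    apply h.nd_U hu
    intro u' hu'
    have h2 := hcon _ (U.add_mem hu hu')
    rw [Q_add, hcon _ hu, hcon _ hu', zero_add, zero_add] at h2
    exact h2
  have := h.dU
  rw [h1, finrank_bot] at this
  omega

/-- `x u` does not lie in `F[J] u` -/
theorem Cfg.not_sp [FiniteDimensional F V] (h : Cfg Q x W U) (hJ : JF Q J c d) (hx : ∀ v, J (x v) = x (J v))
    {u : V} (hu : u ∈ U) (h0 : u ≠ 0) : x u ∉ sp J u := by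
  intro h1
  have h2 : sp J u ≤ W := by
    apply h.low
    · intro y hy
      obtain ⟨a, b, rfl⟩ := mem_sp.1 hy
      rw [map_add, map_smul, map_smul, ← hx]
      exact Submodule.add_mem _ (Submodule.smul_mem _ _ h1) (Submodule.smul_mem _ _ (hJ.inv_sp h1))
    · rw [hJ.finrank_sp h0]
      norm_num
  exact h0 (h.zero (h2 (mem_sp.2 ⟨1, 0, by rw [one_smul, zero_smul, add_zero]⟩)) hu)

theorem JF.sp_eq [FiniteDimensional F V] (hJ : JF Q J c d) {u z : V} (hu : u ≠ 0) (h : u ∈ sp J z) (hz : z ≠ 0) : sp J u = sp J z := by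
  apply Submodule.eq_of_le_of_finrank_eq
  · rw [sp, Submodule.span_le]
    rintro y (rfl | rfl)
    · exact h
    · exact hJ.inv_sp h
  · rw [hJ.finrank_sp hu, hJ.finrank_sp hz]

/-- the product of two reflections in `U`: it fixes `W` pointwise and does not normalise `F[J]` -/
theorem Cfg.exists_a [Finite F] [FiniteDimensional F V] (h : Cfg Q x W U) (hJ : JF Q J c d)
    (hx : ∀ v, J (x v) = x (J v)) : ∃ R ∈ O Q, (∀ w ∈ W, (R * x * R⁻¹ * x⁻¹) w = w) ∧
      ¬ ((∀ v, (R * x * R⁻¹ * x⁻¹) (J v) = J ((R * x * R⁻¹ * x⁻¹) v)) ∨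
        (∀ v, (R * x * R⁻¹ * x⁻¹) (J v) = c • (R * x * R⁻¹ * x⁻¹) v - J ((R * x * R⁻¹ * x⁻¹) v))) := by
  obtain ⟨u, hu, hQu⟩ := h.exists_U
  have hu0 : u ≠ 0 := by
    rintro rfl
    exact hQu (QuadraticMap.map_zero Q)
  have hQx : Q (x u) ≠ 0 := by rwa [mem_O.1 h.mem]
  have hg : refl Q u hQu * x * (refl Q u hQu)⁻¹ * x⁻¹ = refl Q u hQu * refl Q (x u) hQx := by
    rw [mul_assoc, mul_assoc, ← mul_assoc x, refl_inv, refl_conj h.mem hQu hQx]
  have hfix : ∀ w ∈ W, (refl Q u hQu * refl Q (x u) hQx) w = w := by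
    intro w hw
    rw [LinearEquiv.mul_apply, refl_apply, refl_apply, polar_comm Q (x u), h.perp hw (h.x_U hu), mul_zero, zero_smul,
      sub_zero, polar_comm Q u, h.perp hw hu, mul_zero, zero_smul, sub_zero]
  have hns := h.not_sp hJ hx hu hu0
  refine ⟨refl Q u hQu, refl_mem_O hQu, ?_, ?_⟩
  · rw [hg]
    exact hfix
  rw [hg]
  have hval : ∀ v, ∃ b : F, (refl Q u hQu * refl Q (x u) hQx) v - v = (-((Q (x u))⁻¹ * polar Q (x u) v)) • x u + b • u := by
    intro v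
    rw [LinearEquiv.mul_apply, refl_apply, refl_apply]
    refine ⟨-((Q u)⁻¹ * polar Q u (v - ((Q (x u))⁻¹ * polar Q (x u) v) • x u)), ?_⟩
    module
  rintro (h1 | h1)
  · obtain ⟨v, hv⟩ := h.nd.exists_polar_ne (x := x u) (by
      intro h0
      rw [h0] at hQx
      exact hQx (QuadraticMap.map_zero Q))
    set g := refl Q u hQu * refl Q (x u) hQx with hgdef
    set z := g v - v with hz
    obtain ⟨b, hb⟩ := hval v
    obtain ⟨b', hb'⟩ := hval (J v)
    have hJz : J z = g (J v) - J v := by rw [hz, map_sub, h1]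
    have hz0 : z ≠ 0 := by
      intro h0
      rw [← hz, h0] at hb
      apply hns
      have hα : (Q (x u))⁻¹ * polar Q (x u) v ≠ 0 := mul_ne_zero (inv_ne_zero hQx) hv
      refine mem_sp.2 ⟨((Q (x u))⁻¹ * polar Q (x u) v)⁻¹ * b, 0, ?_⟩
      rw [zero_smul, add_zero, mul_smul]
      have h3 : b • u = ((Q (x u))⁻¹ * polar Q (x u) v) • x u := by
        have h4 : b • u = - ((-((Q (x u))⁻¹ * polar Q (x u) v)) • x u) := by
          rw [eq_neg_iff_add_eq_zero, add_comm]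
          exact hb.symm
        rw [h4]
        module
      rw [h3, smul_smul, inv_mul_cancel₀ hα, one_smul]
    have h5 : sp J z ≤ Submodule.span F {x u, u} := by
      rw [sp, Submodule.span_le]
      rintro y (rfl | rfl)
      · exact Submodule.mem_span_pair.2 ⟨_, _, hb.symm⟩
      · rw [hJz]
        exact Submodule.mem_span_pair.2 ⟨_, _, hb'.symm⟩
    have h6 : sp J z = Submodule.span F {x u, u} := by
      apply Submodule.eq_of_le_of_finrank_le h5
      rw [hJ.finrank_sp hz0]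
      have h8 := finrank_range_le_card (R := F) ![x u, u]
      rw [Fintype.card_fin, Matrix.range_cons, Matrix.range_cons, Matrix.range_empty, Set.union_empty] at h8
      exact h8
    have h7 : u ∈ sp J z := by
      rw [h6]
      exact Submodule.subset_span (by simp)
    apply hns
    rw [hJ.sp_eq hu0 h7 hz0, h6]
    exact Submodule.subset_span (by simp)
  · obtain ⟨w, hw, hw0⟩ := h.exists_W
    have h2 := h1 w
    rw [hfix w hw, hfix _ (h.J_W hx hw)] at h2
    apply hw0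
    apply hJ.two
    rw [two_smul]
    nth_rewrite 1 [h2]
    abel

/-- the rotation in the `F[J]`-line of `n = w + u` -/
theorem Cfg.exists_b [Finite F] [FiniteDimensional F V] (h : Cfg Q x W U) (hJ : JF Q J c d)
    (hx : ∀ v, J (x v) = x (J v)) : ∃ R ∈ O Q, (∀ v, (R * x * R⁻¹ * x⁻¹) (J v) = J ((R * x * R⁻¹ * x⁻¹) v)) ∧
      ∃ w ∈ W, (R * x * R⁻¹ * x⁻¹) w ∉ W := by
  obtain ⟨w, hw, hw0⟩ := h.exists_W
  obtain ⟨u, hu, hu0, hQu⟩ := Cfsg.Agent.LieClassical.OrthFinite.exists_sing_mem (Q := Q) U (by rw [h.dU]; norm_num)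
  have hQw : Q w ≠ 0 := fun h0 => hw0 (h.anis hJ hx hw h0)
  obtain ⟨n, hn⟩ : ∃ n, n = w + u := ⟨_, rfl⟩
  have hQn : Q n ≠ 0 := by
    rw [hn, Q_add, hQu, h.perp hw hu, add_zero, add_zero]
    exact hQw
  have hQJ : Q (J n) ≠ 0 := by
    rw [hJ.sim]
    exact mul_ne_zero hJ.d0 hQn
  set R := refl Q (J n) hQJ * refl Q n hQn with hR
  have hRO : R ∈ O Q := (O Q).mul_mem (refl_mem_O hQJ) (refl_mem_O hQn)
  have hRJ : ∀ v, R (J v) = J (R v) := hJ.rot_comm hQn hQJ
  have hinv : ∀ g : V ≃ₗ[F] V, (∀ v, g (J v) = J (g v)) → ∀ v, g⁻¹ (J v) = J (g⁻¹ v) := by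
    intro g hg v
    apply g.injective
    rw [hg, ← LinearEquiv.mul_apply, ← LinearEquiv.mul_apply, mul_inv_cancel, LinearEquiv.coe_one, id, id]
  have hxJ : ∀ v, x (J v) = J (x v) := fun v => (hx v).symm
  refine ⟨R, hRO, ?_, ?_⟩
  · intro v
    rw [LinearEquiv.mul_apply, LinearEquiv.mul_apply, LinearEquiv.mul_apply, hinv x hxJ, hinv R hRJ, hxJ, hRJ]
    rfl
  by_contra hcon
  push Not at hcon
  -- `R⁻¹ W` is invariant under `x`
  have hxinv : ∀ w ∈ W, x⁻¹ w = w := by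
    intro w hw
    apply x.injective
    rw [← LinearEquiv.mul_apply, mul_inv_cancel, LinearEquiv.coe_one, id, (h.memW w).1 hw]
  have h1 : ∀ w ∈ W, R (x (R⁻¹ w)) ∈ W := by
    intro w hw
    have := hcon w hw
    rwa [LinearEquiv.mul_apply, LinearEquiv.mul_apply, LinearEquiv.mul_apply, hxinv w hw] at this
  have hRR : ∀ v, R (R⁻¹ v) = v := fun v => by
    rw [← LinearEquiv.mul_apply, mul_inv_cancel, LinearEquiv.coe_one, id]
  have hRR' : ∀ v, R⁻¹ (R v) = v := fun v => by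
    rw [← LinearEquiv.mul_apply, inv_mul_cancel, LinearEquiv.coe_one, id]
  have h2 : W.map (R.symm : V →ₗ[F] V) ≤ W := by
    apply h.low
    · rintro _ ⟨y, hy, rfl⟩
      exact ⟨R (x (R.symm y)), h1 y hy, R.symm_apply_apply _⟩
    · rw [LinearEquiv.finrank_map_eq, h.dW]
      norm_num
  have h3 : W.map (R.symm : V →ₗ[F] V) = W :=
    Submodule.eq_of_le_of_finrank_eq h2 (LinearEquiv.finrank_map_eq _ _)
  have h4 : ∀ w' ∈ W, R w' ∈ W := by
    intro w' hw'
    rw [← h3] at hw'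
    obtain ⟨y, hy, rfl⟩ := hw'
    rw [LinearEquiv.coe_coe, R.apply_symm_apply]
    exact hy
  apply hw0
  apply h.nd_W hw
  intro w' hw'
  have h5 := h4 w' hw'
  rw [hR, hJ.rot_apply] at h5
  obtain ⟨a, ha⟩ : ∃ a, a = (Q n)⁻¹ * polar Q n w' := ⟨_, rfl⟩
  obtain ⟨b, hb⟩ : ∃ b, b = (Q n)⁻¹ * d⁻¹ * polar Q (J n) w' - (Q n)⁻¹ * polar Q n w' * c * d⁻¹ := ⟨_, rfl⟩
  rw [← hb, ← ha] at h5
  have h6 : a • u + b • J u ∈ W := by
    have h7 : a • u + b • J u = w' - (w' - a • n - b • J n) - (a • w + b • J w) := by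
      rw [hn, map_add]
      module
    rw [h7]
    exact W.sub_mem (W.sub_mem hw' h5) (W.add_mem (W.smul_mem _ hw) (W.smul_mem _ (h.J_W hx hw)))
  have h7 := h.zero h6 (U.add_mem (U.smul_mem _ hu) (U.smul_mem _ (h.J_U hx hu)))
  have h8 := (hJ.comb hu0 h7).1
  rw [ha, mul_eq_zero] at h8
  have h9 := h8.resolve_left (inv_ne_zero hQn)
  rwa [hn, polar_add_left, polar_comm Q u w', h.perp hw' hu, add_zero] at h9

/-- elements normalising `F[J]` and `F[J']` preserve `W` -/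
theorem Cfg.three [Finite F] [FiniteDimensional F V] (h : Cfg Q x W U) (hJ : JF Q J c d)
    (hx : ∀ v, J (x v) = x (J v)) (hx' : ∀ v, J' (x v) = x (J' v)) (hU : ∀ u ∈ U, J' u = J u)
    (hW : ∀ w ∈ W, J' w = c • w - J w) {g : V ≃ₗ[F] V}
    (h1 : (∀ v, g (J v) = J (g v)) ∨ (∀ v, g (J v) = c • g v - J (g v)))
    (h2 : (∀ v, g (J' v) = J' (g v)) ∨ (∀ v, g (J' v) = c • g v - J' (g v))) : ∀ w ∈ W, g w ∈ W := by
  -- `2 J - c` is onto on `W`
  have hsurj : ∀ w ∈ W, ∃ w' ∈ W, J w' - J' w' = w := by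
    let T : W →ₗ[F] W := ((J - J').restrict (p := W) (q := W) fun w hw => by
      rw [LinearMap.sub_apply]
      exact W.sub_mem (h.J_W hx hw) (h.J_W hx' hw))
    have hT : Function.Injective T := by
      rw [injective_iff_map_eq_zero]
      intro y hy
      have h3 : J (y : V) - J' (y : V) = 0 := congrArg Subtype.val hy
      rw [hW _ y.2] at h3
      apply Subtype.ext
      apply hJ.two
      rw [two_smul, ← sub_eq_zero, ← h3]
      abel
    have hT' : Function.Surjective T := LinearMap.injective_iff_surjective.1 hT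
    intro w hw
    obtain ⟨y, hy⟩ := hT' ⟨w, hw⟩
    exact ⟨y, y.2, congrArg Subtype.val hy⟩
  -- the range of `J - J'` is `W`
  have hrg : ∀ v, J v - J' v ∈ W := by
    intro v
    obtain ⟨w, hw, u, hu, rfl⟩ := h.split v
    rw [map_add, map_add, hU u hu, add_sub_add_right_eq_sub]
    exact W.sub_mem (h.J_W hx hw) (h.J_W hx' hw)
  -- the kernel of `J + J' - c` is `W`
  have hker : ∀ v, J v + J' v - c • v = 0 → v ∈ W := by
    intro v hv
    obtain ⟨w, hw, u, hu, rfl⟩ := h.split v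
    rw [map_add, map_add, hU u hu, hW w hw] at hv
    have h3 : (2 : F) • J u = c • u := by
      rw [two_smul, ← sub_eq_zero, ← hv, smul_add]
      abel
    rw [hJ.two h3, add_zero]
    exact hw
  have hdim : ¬ ∀ u ∈ U, g u ∈ W := by
    intro hcon
    have h3 : U.map (g : V →ₗ[F] V) ≤ W := by
      rintro _ ⟨u, hu, rfl⟩
      exact hcon u hu
    have h4 := Submodule.finrank_mono h3
    rw [LinearEquiv.finrank_map_eq, h.dU, h.dW] at h4
    omega
  rcases h1 with h1 | h1 <;> rcases h2 with h2 | h2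
  · intro w hw
    obtain ⟨w', -, rfl⟩ := hsurj w hw
    rw [map_sub, h1, h2]
    exact hrg _
  · exfalso
    apply hdim
    intro u hu
    apply hker
    have h3 := h1 u
    have h4 := h2 u
    rw [hU u hu, h3] at h4
    rw [h4]
    abel
  · exfalso
    apply hdim
    intro u hu
    apply hker
    have h3 := h1 u
    have h4 := h2 u
    rw [hU u hu, h3] at h4
    rw [← h4]
    abel
  · intro w hw
    obtain ⟨w', -, rfl⟩ := hsurj w hw
    rw [map_sub, h1, h2]
    have h3 : c • g w' - J (g w') - (c • g w' - J' (g w')) = -(J (g w') - J' (g w')) := by abel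
    rw [h3]
    exact W.neg_mem (hrg _)

/-- elements preserving `W` and normalising `F[J]` normalise `F[J']` -/
theorem Cfg.one (h : Cfg Q x W U) (hU : ∀ u ∈ U, J' u = J u)
    (hW : ∀ w ∈ W, J' w = c • w - J w) {g : V ≃ₗ[F] V} (hg : g ∈ O Q) (hgW : W.map (g : V →ₗ[F] V) = W)
    (h1 : (∀ v, g (J v) = J (g v)) ∨ (∀ v, g (J v) = c • g v - J (g v))) :
    (∀ v, g (J' v) = J' (g v)) ∨ (∀ v, g (J' v) = c • g v - J' (g v)) := by
  have hgw : ∀ w ∈ W, g w ∈ W := fun w hw => by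
    rw [← hgW]
    exact ⟨w, hw, rfl⟩
  have hgu : ∀ u ∈ U, g u ∈ U := fun u hu => h.pres hg (fun w hw => by
    rw [← hgW] at hw
    obtain ⟨w', hw', rfl⟩ := hw
    exact ⟨w', hw', rfl⟩) hu
  rcases h1 with h1 | h1
  · left
    intro v
    obtain ⟨w, hw, u, hu, rfl⟩ := h.split v
    rw [map_add J', hU u hu, hW w hw, map_add, map_sub, map_smul, h1, h1, map_add g, map_add J', hU _ (hgu u hu),
      hW _ (hgw w hw)]
  · right
    intro v
    obtain ⟨w, hw, u, hu, rfl⟩ := h.split v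
    rw [map_add J', hU u hu, hW w hw, map_add, map_sub, map_smul, h1, h1, map_add g, map_add J', hU _ (hgu u hu),
      hW _ (hgw w hw), smul_add]
    abel

end Cfsg.Agent.H264.O8S
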