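import Cfsg.Agent.H264.O8S.Cfg
import Cfsg.Agent.H823.O8S.Base

/-!
# S3938-OPLUS8 (O9): the three overgroups (helper264)
-/

set_option autoImplicit false
set_option linter.unusedSectionVars false

namespace Cfsg.Agent.H264.O8S

open Module QuadraticMap Cfsg Cfsg.Geo Cfsg.Agent.LieClassical.OrthCore Cfsg.Agent.H955 Cfsg.Agent.H954.TSing
open Cfsg.Agent.LieClassical.OmegaReindex
open Cfsg.Agent.LieClassical.OrthFinite (glEquiv glEquiv_apply)
open Cfsg.Agent.H951 (fx cm Inv mem_fx mem_cm)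
open Cfsg.Agent.H884.El
open Cfsg.Agent.H708.O8 (I8 T8)
open Cfsg.Agent.H823.O8S
open scoped MatrixGroups Matrix commutatorElement

section tp

variable {F : Type} [Field F] [Fintype F]

/-- membership in `tp H` if `H` contains the scalars `±1` -/
theorem mem_tp {H : Subgroup (GL I8 F)} (hH : ∀ z : GL I8 F, ((z : Matrix I8 I8 F) = 1 ∨ (z : Matrix I8 I8 F) = -1) → z ∈ H)
    {g : Omega F (quadFormPlus 4 F)} :
    QuotientGroup.mk' (Subgroup.center (Omega F (quadFormPlus 4 F))) g ∈ tp H ↔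
      ((g : isometryGroup F (quadFormPlus 4 F)) : GL I8 F) ∈ H := by
  refine ⟨?_, mk_mem_tp⟩
  rintro ⟨g', hg', he⟩
  rw [QuotientGroup.mk'_apply, QuotientGroup.mk'_apply, QuotientGroup.eq] at he
  have h1 : ∀ z : Omega F (quadFormPlus 4 F), z ∈ Subgroup.center (Omega F (quadFormPlus 4 F)) →
      ((((z : isometryGroup F (quadFormPlus 4 F)) : GL I8 F) : Matrix I8 I8 F) = 1 ∨
      (((z : isometryGroup F (quadFormPlus 4 F)) : GL I8 F) : Matrix I8 I8 F) = -1) := by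
    rw [← coe_quadPlus]
    intro z hz
    exact (LieClassical.OmegaCenter.mem_center_omega_iff (quadPlus 4 F) quadPlus_nondegenerate (by decide)
      (quadPlus_isotropic (by norm_num)) z).1 hz
  have h2 := hH _ (h1 _ he)
  have h3 : ((g : isometryGroup F (quadFormPlus 4 F)) : GL I8 F) =
      ((g' : isometryGroup F (quadFormPlus 4 F)) : GL I8 F) *
        (((g'⁻¹ * g : Omega F (quadFormPlus 4 F)) : isometryGroup F (quadFormPlus 4 F)) : GL I8 F) := by
    rw [← Subgroup.coe_mul, ← Subgroup.coe_mul, mul_inv_cancel_left]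
  rw [h3]
  exact H.mul_mem hg' h2

theorem lin_eq (g : GL I8 F) : lin g = ((glEquiv I8 F g : (I8 → F) ≃ₗ[F] (I8 → F)) : (I8 → F) →ₗ[F] (I8 → F)) :=
  LinearMap.ext fun _ => rfl

theorem lin_of_neg {z : GL I8 F} (hz : (z : Matrix I8 I8 F) = -1) (v : I8 → F) : lin z v = -v := by
  rw [lin, hz, Matrix.toLin'_apply, Matrix.neg_mulVec, Matrix.one_mulVec]

theorem lin_of_one {z : GL I8 F} (hz : (z : Matrix I8 I8 F) = 1) (v : I8 → F) : lin z v = v := by
  rw [lin, hz, Matrix.toLin'_apply, Matrix.one_mulVec]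

theorem scal_NJ (J : Module.End F (I8 → F)) (c : F) (z : GL I8 F)
    (hz : (z : Matrix I8 I8 F) = 1 ∨ (z : Matrix I8 I8 F) = -1) : z ∈ NJ J c := by
  refine Or.inl fun v => ?_
  rcases hz with hz | hz
  · rw [lin_of_one hz, lin_of_one hz]
  · rw [lin_of_neg hz, lin_of_neg hz, map_neg]

theorem scal_SW (W : Submodule F (I8 → F)) (z : GL I8 F)
    (hz : (z : Matrix I8 I8 F) = 1 ∨ (z : Matrix I8 I8 F) = -1) : z ∈ SW W := by
  rw [mem_SW]
  ext v
  rw [Submodule.mem_map]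
  rcases hz with hz | hz
  · constructor
    · rintro ⟨w, hw, rfl⟩
      rwa [lin_of_one hz]
    · intro hv
      exact ⟨v, hv, lin_of_one hz v⟩
  · constructor
    · rintro ⟨w, hw, rfl⟩
      rw [lin_of_neg hz]
      exact W.neg_mem hw
    · intro hv
      exact ⟨-v, W.neg_mem hv, by rw [lin_of_neg hz, neg_neg]⟩

theorem tp_inf {A B C : Subgroup (GL I8 F)}
    (hA : ∀ z : GL I8 F, ((z : Matrix I8 I8 F) = 1 ∨ (z : Matrix I8 I8 F) = -1) → z ∈ A)
    (hB : ∀ z : GL I8 F, ((z : Matrix I8 I8 F) = 1 ∨ (z : Matrix I8 I8 F) = -1) → z ∈ B)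
    (h : ∀ g : GL I8 F, g ∈ isometryGroup F (quadFormPlus 4 F) → g ∈ A → g ∈ B → g ∈ C) : tp A ⊓ tp B ≤ tp C := by
  rintro y ⟨h1, h2⟩
  obtain ⟨g, rfl⟩ := QuotientGroup.mk'_surjective _ y
  exact mk_mem_tp (h _ (g : isometryGroup F (quadFormPlus 4 F)).2 ((mem_tp hA).1 h1) ((mem_tp hB).1 h2))

/-- commutators with `x` lie in `Ω` -/
theorem tp_not_le {A B : Subgroup (GL I8 F)} {x R : GL I8 F} (hx : x ∈ isometryGroup F (quadFormPlus 4 F))
    (hR : R ∈ isometryGroup F (quadFormPlus 4 F))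
    (hB : ∀ z : GL I8 F, ((z : Matrix I8 I8 F) = 1 ∨ (z : Matrix I8 I8 F) = -1) → z ∈ B)
    (h1 : R * x * R⁻¹ * x⁻¹ ∈ A) (h2 : R * x * R⁻¹ * x⁻¹ ∉ B) : ¬ tp A ≤ tp B := by
  intro h
  obtain ⟨g, hg⟩ : ∃ g : Omega F (quadFormPlus 4 F),
      ((g : isometryGroup F (quadFormPlus 4 F)) : GL I8 F) = R * x * R⁻¹ * x⁻¹ := by
    have h3 : ⁅(⟨R, hR⟩ : isometryGroup F (quadFormPlus 4 F)), ⟨x, hx⟩⁆ ∈ Omega F (quadFormPlus 4 F) :=
      Subgroup.commutator_mem_commutator (Subgroup.mem_top _) (Subgroup.mem_top _)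
    exact ⟨⟨_, h3⟩, rfl⟩
  apply h2
  rw [← hg]
  apply (mem_tp hB).1
  apply h
  apply mk_mem_tp
  rw [hg]
  exact h1

end tp

section cfg

variable {F : Type} [Field F] [Fintype F] {p a r k : ℕ} {x t : GL I8 F} {J J' : Module.End F (I8 → F)} {c d : F}

theorem cast_ne (h : RW p a r k) (hF : Nat.card F = p ^ a) : (r : F) ≠ 0 := by
  intro h0
  have h1 : (p : F) = 0 := by
    have h2 : ((Nat.card F : ℕ) : F) = 0 := by
      rw [Nat.card_eq_fintype_card]
      exact FiniteField.cast_card_eq_zero F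
    rw [hF, Nat.cast_pow] at h2
    exact pow_eq_zero_iff (by have := h.ha; omega) |>.1 h2
  have h2 : Nat.Coprime r p := (Nat.Prime.coprime_iff_not_dvd h.prim.prime).2 h.prim.not_dvd
  have h3 : IsCoprime (r : ℤ) (p : ℤ) := Nat.isCoprime_iff_coprime.2 h2
  obtain ⟨u, v, huv⟩ := h3
  have h4 := congrArg (Int.cast : ℤ → F) huv
  push_cast at h4
  rw [h0, h1, mul_zero, mul_zero, add_zero] at h4
  exact zero_ne_one h4

theorem cfg_of (hF : Nat.card F = p ^ a) (h : RW p a r k) (w : Wit x t (r ^ k)) :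
    Cfg (quadPlus 4 F) (glEquiv I8 F x) (fx (lin x)) (cm (lin x)) := by
  have hr := Fact.mk h.prim.prime
  have hk := h.hk
  have hrF := cast_ne h hF
  have hrk : ((r ^ k : ℕ) : F) ≠ 0 := by
    rw [Nat.cast_pow]
    exact pow_ne_zero _ hrF
  have hxk : x ^ (r ^ k) = 1 := by rw [← w.x_ord]; exact pow_orderOf_eq_one x
  have hX : lin x ^ (r ^ k) = 1 := by rw [← lin_pow, hxk, lin_one]
  have hcompl := H951.isCompl_fx_cm hrk hX
  have hdim := H951.finrank_fx_add_cm hrk hX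
  have h8 : finrank F (I8 → F) = 8 := by
    rw [Module.finrank_fintype_fun_eq_card]
    rfl
  have hdW : finrank F (fx (lin x)) = 2 := by
    rw [w.x_dim, h8] at hdim
    omega
  -- the element of order `r`
  obtain ⟨y, hy⟩ : ∃ y, y = x ^ (r ^ (k - 1)) := ⟨_, rfl⟩
  have hy1 : y ^ r = 1 := by
    rw [hy, ← pow_mul, ← hxk]
    congr 1
    obtain ⟨m, rfl⟩ := Nat.exists_eq_add_of_le' hk
    rw [Nat.add_sub_cancel, pow_succ]
  have hy0 : y ≠ 1 := by
    intro h0
    rw [hy] at h0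
    have h1 := orderOf_dvd_of_pow_eq_one h0
    rw [w.x_ord] at h1
    have h2 := (Nat.pow_dvd_pow_iff_le_right h.prim.prime.one_lt).1 h1
    omega
  have hY : lin y ^ r = 1 := by rw [← lin_pow, hy1, lin_one]
  have hord : orderOf (Fintype.card F : ZMod r) = 6 := by
    have := h.pp.ord
    rwa [← hF, Nat.card_eq_fintype_card] at this
  have hdiv : ∀ Z : Submodule F (I8 → F), Inv (lin y) Z → Z ≤ cm (lin y) → 6 ∣ finrank F Z := by
    intro Z hZ hle
    have := H951.ord_dvd_finrank hY hZ (H951.inf_fx_of_le_cm hrF hY hle)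
    rwa [hord] at this
  have hcle : cm (lin y) ≤ cm (lin x) := by
    rintro v hv
    obtain ⟨u, rfl⟩ := mem_cm.1 hv
    have h1 : lin y - 1 = (lin x - 1) * ∑ i ∈ Finset.range (r ^ (k - 1)), lin x ^ i := by
      rw [hy, lin_pow]
      exact (mul_geom_sum (lin x) (r ^ (k - 1))).symm
    have h2 := LinearMap.congr_fun h1 u
    rw [LinearMap.sub_apply, Module.End.one_apply] at h2
    rw [h2, Module.End.mul_apply]
    exact ⟨_, rfl⟩
  have hc0 : finrank F (cm (lin y)) ≠ 0 := by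
    intro h0
    apply hy0
    have h1 : cm (lin y) = ⊥ := Submodule.finrank_eq_zero.1 h0
    have h2 : lin y = lin 1 := by
      ext1 v
      apply LinearMap.ext
      intro b
      have h3 : lin y ((LinearMap.single F (fun _ => F) v) b) - (LinearMap.single F (fun _ => F) v) b ∈ cm (lin y) :=
        mem_cm.2 ⟨_, rfl⟩
      rw [h1, Submodule.mem_bot, sub_eq_zero] at h3
      rw [LinearMap.comp_apply, LinearMap.comp_apply, h3, lin_one, Module.End.one_apply]
    apply Units.ext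
    exact Matrix.toLin'.injective h2
  have hc6 : finrank F (cm (lin y)) = 6 := by
    have h1 := hdiv _ H951.inv_cm le_rfl
    have h2 := Submodule.finrank_mono hcle
    rw [w.x_dim] at h2
    have h3 := Nat.le_of_dvd (Nat.pos_of_ne_zero hc0) h1
    omega
  have hfle : fx (lin x) ≤ fx (lin y) := by
    intro v hv
    rw [mem_fx] at hv ⊢
    rw [hy, lin_pow]
    exact H951.pow_fx hv _
  have hfeq : fx (lin x) = fx (lin y) := by
    apply Submodule.eq_of_le_of_finrank_eq hfle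
    have h1 := H951.finrank_fx_add_cm hrF hY
    rw [hc6, h8] at h1
    omega
  refine ⟨nondeg_iff.2 quadPlus_nondegenerate, ?_, hcompl, hdW, w.x_dim, fun y => mem_fx, fun y => mem_cm, ?_⟩
  · have h1 : x ∈ isometryGroup F (quadFormPlus 4 F) := by
      obtain ⟨g, -, hg⟩ := w.x_mem
      rw [← hg]
      exact g.2
    rw [← coe_quadPlus, LieClassical.OrthFinite.mem_isometryGroup_iff] at h1
    exact h1
  · intro Z hZ hZ5
    have hZx : Inv (lin x) Z := fun z hz => hZ z hz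
    have hZy : Inv (lin y) Z := by
      rw [hy, lin_pow]
      exact hZx.pow _
    have h1 := H951.finrank_inf_add hrF hY hZy
    have h2 := hdiv (Z ⊓ cm (lin y)) (hZy.inf H951.inv_cm) inf_le_right
    have h3 := Submodule.finrank_mono (inf_le_left : Z ⊓ cm (lin y) ≤ Z)
    have h4 : finrank F ↥(Z ⊓ cm (lin y)) = 0 := by
      rcases Nat.eq_zero_or_pos (finrank F ↥(Z ⊓ cm (lin y))) with h5 | h5
      · exact h5
      · have := Nat.le_of_dvd h5 h2
        omega
    have h5 : Z ⊓ fx (lin y) = Z := Submodule.eq_of_le_of_finrank_eq inf_le_left (by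
      rw [h4, add_zero] at h1
      exact h1)
    rw [hfeq, ← h5]
    exact inf_le_right

theorem jf_of (f : Fld J c d) : JF (quadPlus 4 F) J c d := by
  refine ⟨fun v => ?_, f.irr, fun v => ?_⟩
  · have := LinearMap.congr_fun f.sq v
    rwa [Module.End.mul_apply, LinearMap.sub_apply, LinearMap.smul_apply, LinearMap.smul_apply,
      Module.End.one_apply] at this
  · rw [coe_quadPlus]
    exact f.sim v

theorem comm_of {T : Module.End F (I8 → F)} (h : T * lin x = lin x * T) (v : I8 → F) :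
    T (glEquiv I8 F x v) = glEquiv I8 F x (T v) := LinearMap.congr_fun h v

theorem two_symm (f : Two x t J J' c d) : Two x t J' J c d :=
  ⟨f.fJ', f.fJ, f.cx', f.ct', f.cx, f.ct, fun v hv => (f.agree v hv).symm, fun v hv => by
    rw [f.conj v hv]
    abel⟩

theorem iso_O {g : GL I8 F} (hg : g ∈ isometryGroup F (quadFormPlus 4 F)) : glEquiv I8 F g ∈ O (quadPlus 4 F) := by
  rw [← coe_quadPlus, LieClassical.OrthFinite.mem_isometryGroup_iff] at hg
  exact hg

theorem O_iso {R : (I8 → F) ≃ₗ[F] (I8 → F)} (hR : R ∈ O (quadPlus 4 F)) :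
    (glEquiv I8 F).symm R ∈ isometryGroup F (quadFormPlus 4 F) := by
  rw [← coe_quadPlus, LieClassical.OrthFinite.mem_isometryGroup_iff]
  intro v
  rw [← glEquiv_apply, MulEquiv.apply_symm_apply]
  exact hR v

/-- (O9) the three overgroups -/
theorem u_inf_w (hF : Nat.card F = p ^ a) (h : RW p a r k) (w : Wit x t (r ^ k)) (f : Two x t J J' c d) :
    U₁ x ⊓ U₂ J c ≤ U₂ J' c ∧ U₁ x ⊓ U₂ J' c ≤ U₂ J c ∧ U₂ J c ⊓ U₂ J' c ≤ U₁ x := by
  have hC := cfg_of hF h w
  have hone : ∀ {J J' : Module.End F (I8 → F)}, Two x t J J' c d → U₁ x ⊓ U₂ J c ≤ U₂ J' c := by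
    intro J J' f
    refine tp_inf (scal_SW _) (scal_NJ _ _) ?_
    intro g hg h1 h2
    exact hC.one f.agree f.conj (iso_O hg) (by rw [mem_SW, lin_eq] at h1; exact h1) h2
  refine ⟨hone f, hone (two_symm f), tp_inf (scal_NJ _ _) (scal_NJ _ _) ?_⟩
  intro g hg h1 h2
  have h3 := hC.three (jf_of f.fJ) (comm_of f.cx) (comm_of f.cx') f.agree f.conj (g := glEquiv I8 F g) h1 h2
  rw [mem_SW, lin_eq]
  apply Submodule.eq_of_le_of_finrank_eq
  · rintro _ ⟨v, hv, rfl⟩
    exact h3 v hv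
  · exact LinearEquiv.finrank_map_eq _ _

theorem u_not_le_w (hF : Nat.card F = p ^ a) (h : RW p a r k) (w : Wit x t (r ^ k)) (f : Two x t J J' c d) :
    ¬ U₁ x ≤ U₂ J c ∧ ¬ U₂ J c ≤ U₁ x ∧ U₁ x ≠ ⊤ ∧ U₂ J c ≠ ⊤ := by
  have hC := cfg_of hF h w
  have hx : x ∈ isometryGroup F (quadFormPlus 4 F) := by
    obtain ⟨g, -, hg⟩ := w.x_mem
    rw [← hg]
    exact g.2
  have hcv : ∀ R : (I8 → F) ≃ₗ[F] (I8 → F), ∀ v,
      lin ((glEquiv I8 F).symm R * x * ((glEquiv I8 F).symm R)⁻¹ * x⁻¹) v =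
        (R * glEquiv I8 F x * R⁻¹ * (glEquiv I8 F x)⁻¹) v := by
    intro R v
    rw [lin_eq, LinearEquiv.coe_coe, map_mul, map_mul, map_mul, map_inv, map_inv, MulEquiv.apply_symm_apply]
  have h1 : ¬ U₁ x ≤ U₂ J c := by
    obtain ⟨R, hR, h2, h3⟩ := hC.exists_a (jf_of f.fJ) (comm_of f.cx)
    refine tp_not_le hx (O_iso hR) (scal_NJ _ _) ?_ ?_
    · rw [mem_SW]
      ext v
      rw [Submodule.mem_map]
      constructor
      · rintro ⟨y, hy, rfl⟩
        rw [hcv, h2 y hy]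
        exact hy
      · intro hv
        exact ⟨v, hv, by rw [hcv, h2 v hv]⟩
    · intro h4
      apply h3
      rcases h4 with h4 | h4
      · left
        intro v
        rw [← hcv, ← hcv, h4 v]
      · right
        intro v
        rw [← hcv, ← hcv, h4 v]
  have h2 : ¬ U₂ J c ≤ U₁ x := by
    obtain ⟨R, hR, h2, y, hy, h3⟩ := hC.exists_b (jf_of f.fJ) (comm_of f.cx)
    refine tp_not_le hx (O_iso hR) (scal_SW _) (Or.inl fun v => ?_) ?_
    · rw [hcv, hcv, h2 v]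
    · intro h4
      apply h3
      rw [mem_SW] at h4
      rw [← hcv, ← h4]
      exact ⟨y, hy, rfl⟩
  exact ⟨h1, h2, fun h3 => h2 (h3 ▸ le_top), fun h3 => h1 (h3 ▸ le_top)⟩

theorem u_inf (hF : Nat.card F = p ^ a) (h : RK p a r k) (w : Wit x t (r ^ k)) (f : Two x t J J' c d) :
    U₁ x ⊓ U₂ J c ≤ U₂ J' c ∧ U₁ x ⊓ U₂ J' c ≤ U₂ J c ∧ U₂ J c ⊓ U₂ J' c ≤ U₁ x := u_inf_w hF h.weak w f

theorem u_not_le (hF : Nat.card F = p ^ a) (h : RK p a r k) (w : Wit x t (r ^ k)) (f : Two x t J J' c d) :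
    ¬ U₁ x ≤ U₂ J c ∧ ¬ U₂ J c ≤ U₁ x ∧ U₁ x ≠ ⊤ ∧ U₂ J c ≠ ⊤ := u_not_le_w hF h.weak w f

end cfg

end Cfsg.Agent.H264.O8S
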